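import Groth.Agent.EtBCQ.StrictSys
import Groth.Agent.EtAcycX.Fibres
import Mathlib

/-!
Specialisation maps between strict localisations.
-/

set_option autoImplicit false
set_option backward.isDefEq.respectTransparency false
set_option backward.isDefEq.respectTransparency.types false
set_option linter.style.haveILetI false

universe u

open CategoryTheory AlgebraicGeometry IsLocalRing

noncomputable section

namespace Groth.Agent.StrictSpec

open Groth.Agent.EtBCQ (SH mkSH)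

variable {X : Scheme.{u}} {x x' : X} (Q : SH X x) (Q' : SH X x')

/-- a specialisation lifts to strict localisations -/
theorem exists_specialization (h : x' ⤳ x) : ∃ g : Spec (CommRingCat.of Q'.R) ⟶ Spec (CommRingCat.of Q.R), g ≫ Q.spec = Q'.spec := by
  obtain ⟨p, hp⟩ : x' ∈ Set.range Q.spec := by
    have h1 : x' ∈ Set.range (X.fromSpecStalk x) := by
      rw [Scheme.range_fromSpecStalk]
      exact h
    obtain ⟨z, rfl⟩ := h1
    haveI := _root_.Groth.Agent.Hensel.strictHenselization_faithfullyFlat (X.presheaf.stalk x) Q.R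
    obtain ⟨w, rfl⟩ := PrimeSpectrum.comap_surjective_of_faithfullyFlat (A := X.presheaf.stalk x) (B := Q.R) z
    exact ⟨w, rfl⟩
  let P := mkSH _ p
  haveI : WeaklyEtale Q.spec := EtAcycX.weaklyEtale_specOf x Q.R
  obtain ⟨aX, lX, sX, hX⟩ := EtAcycX.exists_push_SH Q.spec P
  let PX : SH X (Q.spec p) := { R := P.R, alg := aX, lh := lX, sh := sX }
  obtain ⟨ψ, -, hψ⟩ := EtBCQ.exists_strict_hom PX Q'.spec (Q'.spec_closed.trans hp.symm)
  refine ⟨Spec.map (CommRingCat.ofHom (show P.R →+* Q'.R from ψ)) ≫ P.spec, ?_⟩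
  rw [Category.assoc, ← hX]
  exact hψ

theorem specializes_of_hom (g : Spec (CommRingCat.of Q'.R) ⟶ Spec (CommRingCat.of Q.R)) (hg : g ≫ Q.spec = Q'.spec) :
    x' ⤳ x := by
  have h : Q.spec (g (closedPoint Q'.R)) = x' := by
    rw [← Scheme.Hom.comp_apply, hg]
    exact Q'.spec_closed
  rw [← h]
  exact ((IsLocalRing.specializes_closedPoint (g (closedPoint Q'.R))).map Q.spec.continuous).trans
    (specializes_of_eq Q.spec_closed)

/-- lifts of a specialisation correspond to their restrictions to the closed point -/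
theorem hom_ext_closed (g₁ g₂ : Spec (CommRingCat.of Q'.R) ⟶ Spec (CommRingCat.of Q.R)) (h₁ : g₁ ≫ Q.spec = Q'.spec)
    (h₂ : g₂ ≫ Q.spec = Q'.spec)
    (h : Spec.map (CommRingCat.ofHom (residue Q'.R)) ≫ g₁ = Spec.map (CommRingCat.ofHom (residue Q'.R)) ≫ g₂) :
    g₁ = g₂ := by
  let P := mkSH _ (g₁ (closedPoint Q'.R))
  obtain ⟨ψ₁, hl, hψ₁⟩ := EtBCQ.exists_strict_hom P g₁ rfl
  haveI := hl
  haveI : IsLocalHom ((residue Q'.R).comp ψ₁) := RingHom.isLocalHom_comp _ _
  obtain ⟨ψ₂, ⟨hψ₂, hr⟩, -⟩ := EtBCQ.existsUnique_strict P g₂ ((residue Q'.R).comp ψ₁) (residue Q'.R) (by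
    rw [CommRingCat.ofHom_comp, Spec.map_comp, Category.assoc, hψ₁, h])
  haveI : WeaklyEtale Q.spec := EtAcycX.weaklyEtale_specOf x Q.R
  obtain ⟨aX, lX, sX, hX⟩ := EtAcycX.exists_push_SH Q.spec P
  let PX : SH X (Q.spec (g₁ (closedPoint Q'.R))) := { R := P.R, alg := aX, lh := lX, sh := sX }
  haveI : IsLocalHom (show PX.R →+* ResidueField Q'.R from (residue Q'.R).comp ψ₁) :=
    ⟨fun a ha => (inferInstance : IsLocalHom ((residue Q'.R).comp ψ₁)).map_nonunit a ha⟩
  have e₁ : Spec.map (CommRingCat.ofHom (show PX.R →+* Q'.R from ψ₁)) ≫ PX.spec = Q'.spec := by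
    rw [show PX.spec = P.spec ≫ Q.spec from hX, ← Category.assoc, hψ₁, h₁]
  have e₂ : Spec.map (CommRingCat.ofHom (show PX.R →+* Q'.R from ψ₂)) ≫ PX.spec = Q'.spec := by
    rw [show PX.spec = P.spec ≫ Q.spec from hX, ← Category.assoc, hψ₂, h₂]
  have hu := (EtBCQ.existsUnique_strict PX Q'.spec (show PX.R →+* ResidueField Q'.R from (residue Q'.R).comp ψ₁)
    (residue Q'.R) (by
      conv_lhs => rw [← e₁, ← Category.assoc, ← Spec.map_comp]
      rfl)).unique (y₁ := ψ₁) (y₂ := ψ₂) ⟨e₁, rfl⟩ ⟨e₂, hr⟩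
  rw [← hψ₁, ← hψ₂, hu]

theorem exists_lift_closed (h : Spec (CommRingCat.of (ResidueField Q'.R)) ⟶ Spec (CommRingCat.of Q.R))
    (hh : h ≫ Q.spec = Hens2.geomPt X x' Q'.R) :
    ∃ g : Spec (CommRingCat.of Q'.R) ⟶ Spec (CommRingCat.of Q.R), g ≫ Q.spec = Q'.spec ∧
      Spec.map (CommRingCat.ofHom (residue Q'.R)) ≫ g = h := by
  let P := mkSH _ (h (closedPoint (ResidueField Q'.R)))
  haveI : IsSepClosed (ResidueField (ResidueField Q'.R)) := _root_.Groth.Agent.Hensel.isSepClosed_of_ringEquiv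
    (RingEquiv.ofBijective (residue (ResidueField Q'.R))
      ⟨RingHom.injective _, IsLocalRing.residue_surjective⟩)
  obtain ⟨a, ha, hPa⟩ := EtBCQ.exists_strict_hom P h rfl
  haveI := ha
  haveI : WeaklyEtale Q.spec := EtAcycX.weaklyEtale_specOf x Q.R
  obtain ⟨aX, lX, sX, hX⟩ := EtAcycX.exists_push_SH Q.spec P
  let PX : SH X (Q.spec (h (closedPoint (ResidueField Q'.R)))) := { R := P.R, alg := aX, lh := lX, sh := sX }
  haveI : IsLocalHom (show PX.R →+* ResidueField Q'.R from a) := ⟨fun b hb => ha.map_nonunit b hb⟩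
  obtain ⟨ψ, ⟨hψ, hψa⟩, -⟩ := EtBCQ.existsUnique_strict PX Q'.spec (show PX.R →+* ResidueField Q'.R from a)
    (residue Q'.R) (by
      have e : Spec.map (CommRingCat.ofHom (show PX.R →+* ResidueField Q'.R from a)) ≫ PX.spec = h ≫ Q.spec := by
        rw [show PX.spec = P.spec ≫ Q.spec from hX, ← Category.assoc]
        exact congrArg (· ≫ Q.spec) hPa
      exact (e.trans hh).symm)
  refine ⟨Spec.map (CommRingCat.ofHom (show P.R →+* Q'.R from ψ)) ≫ P.spec, ?_, ?_⟩
  · rw [Category.assoc, ← hX]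
    exact hψ
  · rw [← Category.assoc, ← Spec.map_comp]
    exact (congrArg (fun k => Spec.map (CommRingCat.ofHom k) ≫ P.spec) hψa).trans hPa

end Groth.Agent.StrictSpec
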