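import Groth.Agent.EtShLib.Loc
import Groth.Agent.EtShLib.LimSect
import Groth.Agent.EtShSep.Henselian
import Groth.Agent.EtStalk.Applications
import Mathlib

/-!
The fibre at the closed point of a strictly henselian scheme is the set of global sections.
-/

set_option autoImplicit false
set_option backward.isDefEq.respectTransparency false
set_option backward.isDefEq.respectTransparency.types false
set_option maxHeartbeats 1000000
set_option linter.style.haveILetI false

universe u

open CategoryTheory CategoryTheory.Limits AlgebraicGeometry Opposite IsLocalRing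

noncomputable section

namespace Groth.Agent.StrictSpec

open Groth.Agent.EtShLib

variable (R : Type u) [CommRing R] [HenselianLocalRing R] [IsSepClosed (ResidueField R)]

/-- the closed geometric point -/
abbrev cl : Spec (CommRingCat.of (ResidueField R)) ⟶ Spec (CommRingCat.of R) :=
  Spec.map (CommRingCat.ofHom (residue R))

/-- its tautological lift to the final object -/
def clTop : Over.mk (cl R) ⟶ (Scheme.Etale.forget (Spec (CommRingCat.of R))).obj (EtCoh.top (Spec (CommRingCat.of R))) :=
  Over.homMk (cl R) (Category.comp_id _)

/-- from global sections to the fibre at the closed point -/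
def toClosed : (sheafSections (Spec (CommRingCat.of R)).smallEtaleTopology (Type (u + 1))).obj
      (op (EtCoh.top (Spec (CommRingCat.of R)))) ⟶
    (Scheme.pointSmallEtale (cl R)).sheafFiber (A := Type (u + 1)) where
  app G := (Scheme.pointSmallEtale (cl R)).toPresheafFiber (EtCoh.top _) (clTop R) G.obj
  naturality G G' a := ((Scheme.pointSmallEtale (cl R)).toPresheafFiber_naturality a.hom (EtCoh.top _) (clTop R)).symm

theorem isIso_toClosed : IsIso (toClosed R) := by
  have : ∀ G, IsIso ((toClosed R).app G) := fun G => by
    rw [isIso_iff_bijective]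
    refine ⟨fun a b h => ?_, fun z => ?_⟩
    · obtain ⟨W, g, hg, e⟩ := (gm_eq_iff (cl R) (clTop R) a b).mp h
      refine eq_of_eqLoc fun y => ?_
      have hopen := isOpen_eqLoc (G := G) a b
      have hcl : closedPoint R ∈ eqLoc G (EtCoh.top (Spec (CommRingCat.of R))) a b := by
        have hd : (cl R) (default : Spec (CommRingCat.of (ResidueField R))) = closedPoint R :=
          (congrArg (cl R) (Subsingleton.elim (α := Spec (CommRingCat.of (ResidueField R))) _
            (closedPoint (ResidueField R)))).trans (IsLocalRing.comap_closedPoint (residue R))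
        rw [← hd]
        exact ⟨W, g, hg, e⟩
      exact (IsLocalRing.specializes_closedPoint y).mem_open hopen hcl
    · obtain ⟨V, v, s, rfl⟩ := gm_surjective (G := G) (cl R) z
      haveI := V.prop
      obtain ⟨l, hl, hlv⟩ := Groth.Agent.EtStrictLoc.exists_lift (R := R) (𝟙 (Spec (CommRingCat.of R)))
        (Scheme.Etale.mk V.hom) v.left ((Over.w v).trans (Category.comp_id _).symm)
      let σ : EtCoh.top (Spec (CommRingCat.of R)) ⟶ V := MorphismProperty.Over.homMk l hl
      refine ⟨G.obj.map σ.op s, (gm_map (cl R) σ (clTop R) s).trans (congrArg (fun w => gm (cl R) G V w s) ?_)⟩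
      exact Over.OverMorphism.ext hlv
  exact NatIso.isIso_of_isIso_app _

theorem nonempty_fiber_iso {X : Scheme.{u}} (p : Spec (CommRingCat.of R) ⟶ X) :
    Nonempty ((Scheme.pointSmallEtale (cl R ≫ p)).sheafFiber (A := Type (u + 1)) ≅
      EtDesc.pullSh p ⋙ (sheafSections (Spec (CommRingCat.of R)).smallEtaleTopology (Type (u + 1))).obj
        (op (EtCoh.top (Spec (CommRingCat.of R))))) :=
  haveI := isIso_toClosed R
  ⟨EtStalk.stalkPullShIso p (cl R) ≪≫ Functor.isoWhiskerLeft (EtDesc.pullSh p) (asIso (toClosed R)).symm⟩

end Groth.Agent.StrictSpec
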